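import Mathlib
import Cfsg.Prelude.Def_Characters
import Cfsg.Agent.Helper3.ColumnOrth
import Cfsg.Agent.Helper79.CharBasic

/-!
# (NV3) for helper54's S3670 skeleton (`tools/helper54_u33/Skel.lean.txt`)

From column orthogonality: if every nonzero value at `g` has absolute value `≥ 1`, at most
`|C(g)|` irreducible characters are nonzero at `g`.  Also a weighted counting lemma and the real
form of column orthogonality, reused by `NV8`.
-/

set_option autoImplicit false

namespace Cfsg.Agent.Helper76.U33

open Cfsg
open scoped ComplexConjugate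

universe u

/-- weighted counting: nonnegative weights of total `t * c`, each at least `t > 0` on the
members of `P`, leave at most `c` members in `P`. -/
theorem nv_weight_count {ι : Type*} [Fintype ι] (w : ι → ℝ) (P : ι → Prop) [DecidablePred P]
    (t : ℝ) (c : ℕ) (ht : 0 < t) (hw0 : ∀ i, 0 ≤ w i) (hw : ∀ i, P i → t ≤ w i)
    (hs : ∑ i, w i = t * (c : ℝ)) : (Finset.univ.filter P).card ≤ c := by
  have h1 : t * ((Finset.univ.filter P).card : ℝ) ≤ t * (c : ℝ) := by
    rw [← hs]
    calc t * ((Finset.univ.filter P).card : ℝ)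
        = ∑ _i ∈ Finset.univ.filter P, t := by
          rw [Finset.sum_const, nsmul_eq_mul, mul_comm]
      _ ≤ ∑ i ∈ Finset.univ.filter P, w i :=
          Finset.sum_le_sum fun i hi => hw i (Finset.mem_filter.mp hi).2
      _ ≤ ∑ i, w i :=
          Finset.sum_le_sum_of_subset_of_nonneg (Finset.filter_subset _ _)
            fun i _ _ => hw0 i
  have h2 : ((Finset.univ.filter P).card : ℝ) ≤ (c : ℝ) := le_of_mul_le_mul_left h1 ht
  exact_mod_cast h2

/-- column orthogonality on the diagonal, over the reals. -/
theorem nv_col_orth_real {G : Type u} [Group G] [Fintype G] [Fintype (IrrCharacter G)] (g : G) :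
    ∑ χ : IrrCharacter G, Complex.normSq ((χ : G → ℂ) g) =
      (Nat.card (Subgroup.centralizer ({g} : Set G)) : ℝ) := by
  have hcol := Helper3.column_orthogonality_self (G := G) g
  have h : ((∑ χ : IrrCharacter G, Complex.normSq ((χ : G → ℂ) g) : ℝ) : ℂ) =
      ((Nat.card (Subgroup.centralizer ({g} : Set G)) : ℝ) : ℂ) := by
    rw [Complex.ofReal_natCast, ← hcol, Complex.ofReal_sum]
    refine Finset.sum_congr rfl fun χ _ => ?_
    rw [Complex.mul_conj]
  exact_mod_cast h

/-- (NV3) from column orthogonality (`Helper3.column_orthogonality_self`): if every nonzero value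
at `g` has absolute value `≥ 1`, at most `|C(g)|` irreducible characters are nonzero at `g`. -/
theorem NV3_card {G : Type u} [Group G] [Fintype G] (g : G)
    (hN : ∀ χ : IrrCharacter G, (χ : G → ℂ) g ≠ 0 → 1 ≤ Complex.normSq ((χ : G → ℂ) g)) :
    Nat.card {χ : IrrCharacter G // (χ : G → ℂ) g ≠ 0} ≤
      Nat.card (Subgroup.centralizer ({g} : Set G)) := by
  classical
  haveI : Finite (IrrCharacter G) := Helper79.irr_finite'
  letI : Fintype (IrrCharacter G) := Fintype.ofFinite _
  rw [Nat.card_eq_fintype_card, Fintype.card_subtype]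
  refine nv_weight_count (fun χ : IrrCharacter G => Complex.normSq ((χ : G → ℂ) g))
    (fun χ : IrrCharacter G => (χ : G → ℂ) g ≠ 0) 1 _ one_pos
    (fun χ => Complex.normSq_nonneg _) hN ?_
  rw [one_mul]
  exact nv_col_orth_real g

end Cfsg.Agent.Helper76.U33
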