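import Mathlib
import Cfsg.Prelude.Def_Characters
import Cfsg.Agent.Helper3.ColumnOrth
import Cfsg.Agent.Helper79.CharBasic
import Cfsg.Agent.Helper76.U33.NV3

/-!
# (NV8) for helper54's S3670 skeleton (`tools/helper54_u33/Skel.lean.txt`)

Column orthogonality at `g, g³, g⁵, g⁷` (all with the same centralizer as `g`, since `g` is a
power of each when `g` has order `8`).
-/

set_option autoImplicit false

namespace Cfsg.Agent.Helper76.U33

open Cfsg
open scoped ComplexConjugate

universe u

/-- the centralizer of `g` is contained in the centralizer of any power of `g`. -/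
theorem nv_centralizer_le_pow {G : Type u} [Group G] (g : G) (k : ℕ) :
    Subgroup.centralizer ({g} : Set G) ≤ Subgroup.centralizer ({g ^ k} : Set G) := by
  intro x hx
  rw [Subgroup.mem_centralizer_iff] at hx ⊢
  intro h hh
  rw [Set.mem_singleton_iff] at hh
  subst hh
  have hc : Commute g x := hx g (Set.mem_singleton g)
  exact (hc.pow_left k).eq

/-- if `g` is a power of `g ^ k`, then `g` and `g ^ k` have the same centralizer. -/
theorem nv_centralizer_pow_eq {G : Type u} [Group G] (g : G) (k m : ℕ)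
    (h : (g ^ k) ^ m = g) :
    Subgroup.centralizer ({g ^ k} : Set G) = Subgroup.centralizer ({g} : Set G) := by
  apply le_antisymm
  · have := nv_centralizer_le_pow (g ^ k) m
    rwa [h] at this
  · exact nv_centralizer_le_pow g k

/-- for `g` of order `8` and `k` odd below `8`, `(g ^ k) ^ k = g`. -/
theorem nv_pow_pow_of_order8 {G : Type u} [Group G] (g : G) (hg : orderOf g = 8) (k : ℕ)
    (hk : k * k % 8 = 1) : (g ^ k) ^ k = g := by
  rw [← pow_mul, ← pow_mod_orderOf, hg, hk, pow_one]

/-- (NV8) from column orthogonality at `g, g³, g⁵, g⁷` (all with the same centralizer as `g`,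
since `g` is a power of each). -/
theorem NV8_card {G : Type u} [Group G] [Fintype G] (g : G) (hg : orderOf g = 8)
    (hN : ∀ χ : IrrCharacter G, (χ : G → ℂ) g ≠ 0 →
      4 ≤ Complex.normSq ((χ : G → ℂ) g) + Complex.normSq ((χ : G → ℂ) (g ^ 3)) +
        Complex.normSq ((χ : G → ℂ) (g ^ 5)) + Complex.normSq ((χ : G → ℂ) (g ^ 7))) :
    Nat.card {χ : IrrCharacter G // (χ : G → ℂ) g ≠ 0} ≤
      Nat.card (Subgroup.centralizer ({g} : Set G)) := by
  classical
  haveI : Finite (IrrCharacter G) := Helper79.irr_finite'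
  letI : Fintype (IrrCharacter G) := Fintype.ofFinite _
  rw [Nat.card_eq_fintype_card, Fintype.card_subtype]
  refine nv_weight_count
    (fun χ : IrrCharacter G =>
      Complex.normSq ((χ : G → ℂ) g) + Complex.normSq ((χ : G → ℂ) (g ^ 3)) +
        Complex.normSq ((χ : G → ℂ) (g ^ 5)) + Complex.normSq ((χ : G → ℂ) (g ^ 7)))
    (fun χ : IrrCharacter G => (χ : G → ℂ) g ≠ 0) 4 _ (by norm_num)
    (fun χ => by
      have h1 := Complex.normSq_nonneg ((χ : G → ℂ) g)
      have h3 := Complex.normSq_nonneg ((χ : G → ℂ) (g ^ 3))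
      have h5 := Complex.normSq_nonneg ((χ : G → ℂ) (g ^ 5))
      have h7 := Complex.normSq_nonneg ((χ : G → ℂ) (g ^ 7))
      positivity) hN ?_
  have e3 := nv_centralizer_pow_eq g 3 3 (nv_pow_pow_of_order8 g hg 3 (by norm_num))
  have e5 := nv_centralizer_pow_eq g 5 5 (nv_pow_pow_of_order8 g hg 5 (by norm_num))
  have e7 := nv_centralizer_pow_eq g 7 7 (nv_pow_pow_of_order8 g hg 7 (by norm_num))
  simp only [Finset.sum_add_distrib]
  rw [nv_col_orth_real g, nv_col_orth_real (g ^ 3), nv_col_orth_real (g ^ 5),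
    nv_col_orth_real (g ^ 7), e3, e5, e7]
  ring

end Cfsg.Agent.Helper76.U33
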