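import Mathlib
import Cfsg.Prelude.Def_Classical
import Cfsg.Agent.Helper98.SU33c
import Cfsg.Agent.S0283

/-!
# (CPERF) for helper54's S3670 skeleton (`tools/helper54_u33/Skel.lean.txt`)

`SU_3(3)` (helper98's model over `GF9`) is perfect: it is isomorphic to the simple group
`PSU_3(3)` and its centre is trivial.
-/

set_option autoImplicit false

namespace Cfsg.Agent.Helper76.U33

open Cfsg

/-- helper98's `SU_3(3)` over `GF9` is a simple group. -/
theorem su33_isSimpleGroup : IsSimpleGroup Cfsg.Agent.Helper98.SU33.S := by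
  have hF : Fintype.card Cfsg.Agent.Helper98.GF9 = 9 := Cfsg.Agent.Helper98.card_GF9
  have hF' : Fintype.card Cfsg.Agent.Helper98.GF9 = 3 ^ 2 := by rw [hF]; norm_num
  haveI hs : IsSimpleGroup (Cfsg.PSU 3 Cfsg.Agent.Helper98.GF9 3) :=
    Cfsg.Agent.S0283.result hF' 3 le_rfl (by decide)
  exact (Cfsg.Agent.Helper98.SU33.psuEquiv hF).symm.isSimpleGroup

/-- (CPERF) `SU_3(3)` is perfect: `PSU_3(3)` is simple (`S0283.result`), `Helper98.SU33.psuEquiv`,
and `S` is not abelian (`Helper98.SU33.center_S`). -/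
theorem CPERF_perfect : commutator Cfsg.Agent.Helper98.SU33.S = ⊤ := by
  haveI := su33_isSimpleGroup
  rcases IsSimpleGroup.eq_bot_or_eq_top_of_normal (commutator Cfsg.Agent.Helper98.SU33.S)
    inferInstance with h | h
  · exfalso
    rw [commutator_eq_bot_iff_center_eq_top, Cfsg.Agent.Helper98.SU33.center_S] at h
    exact bot_ne_top h
  · exact h

end Cfsg.Agent.Helper76.U33
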