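import Mathlib
import Cfsg.Agent.Helper98.FrobSpec

/-!
# (WF) for helper54's S3670 skeleton (`tools/helper54_u33/Skel.lean.txt`)

The Frobenius group `2^3 : 7` as `Multiplicative (Fin 3 → ZMod 2) ⋊ ⟨g⟩` with `g` the companion
matrix of `x^3 + x + 1` over `F_2` (helper98's `FrobSpec.glAut`).  The normal subgroup `A = 2^3`
(kernel of the projection to `⟨g⟩`) has index `7`, and the linear character `v ↦ (-1)^(v 0)` of `A`
is moved by every element outside `A`.
-/

set_option autoImplicit false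

namespace Cfsg.Agent.Helper76.U33

open SemidirectProduct Matrix

/-- `H` has a normal subgroup `A` of index `n` and a linear character of `A` whose inertia group
is `A` (every element outside `A` moves it).  (Copy of helper54's `U33Skel.HasInd`.) -/
def HasInd (H : Type) [Group H] (n : ℕ) : Prop :=
  ∃ (A : Subgroup H) (hA : A.Normal) (lam : A →* ℂ), A.index = n ∧
    ∀ h : H, h ∉ A → ∃ a : A, lam ⟨h * a * h⁻¹, hA.conj_mem a a.2 h⟩ ≠ lam a

section general

variable {N C : Type} [Group N] [Group C] (φ : C →* MulAut N)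

/-- a linear character of `N`, seen on the kernel of the projection `N ⋊ C → C`. -/
noncomputable def wfLam (χ₀ : N →* ℂ) : (rightHom : N ⋊[φ] C →* C).ker →* ℂ where
  toFun a := χ₀ a.1.left
  map_one' := by simp
  map_mul' a b := by
    have ha : a.1.right = 1 := a.2
    change χ₀ ((a.1 * b.1).left) = χ₀ a.1.left * χ₀ b.1.left
    rw [mul_left, ha, map_one, MulAut.one_apply, map_mul]

theorem wfLam_apply (χ₀ : N →* ℂ) (a : (rightHom : N ⋊[φ] C →* C).ker) :
    wfLam φ χ₀ a = χ₀ a.1.left := rfl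

/-- a linear character is invariant under conjugation inside `N`. -/
theorem wf_conj_inv (χ₀ : N →* ℂ) (w x : N) : χ₀ (w * x * w⁻¹) = χ₀ x := by
  rw [map_mul, map_mul, mul_comm (χ₀ w), mul_assoc, ← map_mul, mul_inv_cancel, map_one, mul_one]

/-- a semidirect product `N ⋊ C` in which every nontrivial element of `C` moves the linear
character `χ₀` of `N` has `HasInd` with `n = |C|`. -/
theorem wf_hasInd_semidirect (χ₀ : N →* ℂ)
    (hmove : ∀ c : C, c ≠ 1 → ∃ v : N, χ₀ (φ c v) ≠ χ₀ v) :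
    HasInd (N ⋊[φ] C) (Nat.card C) := by
  refine ⟨(rightHom : N ⋊[φ] C →* C).ker, MonoidHom.normal_ker _, wfLam φ χ₀, ?_, ?_⟩
  · rw [Subgroup.index_ker, MonoidHom.range_eq_top.mpr rightHom_surjective]
    exact Nat.card_congr Subgroup.topEquiv.toEquiv
  · intro h hh
    have hc : h.right ≠ 1 := fun h1 => hh h1
    obtain ⟨v, hv⟩ := hmove h.right hc
    have hmem : (inl v : N ⋊[φ] C) ∈ (rightHom : N ⋊[φ] C →* C).ker := rightHom_inl v
    refine ⟨⟨inl v, hmem⟩, ?_⟩
    rw [wfLam_apply, wfLam_apply]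
    have e1 : (h * inl v * h⁻¹).left = h.left * φ h.right v * h.left⁻¹ := by
      rw [mul_left, mul_left, inv_left, mul_right, left_inl, right_inl, mul_one,
        ← MulAut.mul_apply, ← map_mul, mul_inv_cancel, map_one, MulAut.one_apply]
    change χ₀ ((h * inl v * h⁻¹).left) ≠ χ₀ ((inl v : N ⋊[φ] C).left)
    rw [e1, wf_conj_inv, left_inl]
    exact hv

end general

/-! ### the concrete group -/

/-- companion matrix of `x^3 + x + 1` over `F_2`. -/
def wfM : Matrix (Fin 3) (Fin 3) (ZMod 2) := !![0, 0, 1; 1, 0, 1; 0, 1, 0]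

theorem wfM_pow7 : wfM ^ 7 = 1 := by decide

theorem wfM_ne_one : wfM ≠ 1 := by decide

theorem wfM_move : ∀ r : Fin 7, r ≠ 0 →
    ∃ v : Fin 3 → ZMod 2, ((wfM ^ r.val).mulVec v) 0 ≠ v 0 := by decide

/-- `wfM` as an element of `GL_3(2)`. -/
def wfG : Matrix.GeneralLinearGroup (Fin 3) (ZMod 2) :=
  ⟨wfM, wfM ^ 6, by rw [← pow_succ', wfM_pow7], by rw [← pow_succ, wfM_pow7]⟩

theorem wfG_pow7 : wfG ^ 7 = 1 := by
  apply Units.ext
  rw [Units.val_pow_eq_pow_val, Units.val_one]
  exact wfM_pow7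

theorem wfG_orderOf : orderOf wfG = 7 := by
  haveI : Fact (Nat.Prime 7) := ⟨by norm_num⟩
  apply orderOf_eq_prime wfG_pow7
  intro h
  exact wfM_ne_one (congrArg Units.val h)

/-- the cyclic group of order `7` generated by `wfG`. -/
abbrev WfC : Type := Subgroup.zpowers wfG

/-- the Frobenius group `2^3 : 7`. -/
abbrev WfF : Type :=
  Multiplicative (Fin 3 → ZMod 2) ⋊[(Cfsg.Agent.Helper98.FrobSpec.glAut 3 2).comp
    (Subgroup.zpowers wfG).subtype] WfC

theorem wf_card_C : Nat.card WfC = 7 := by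
  rw [Nat.card_zpowers, wfG_orderOf]

/-- every element of `WfC` is a power `wfG ^ r` with `r < 7`. -/
theorem wf_exists_pow (c : WfC) : ∃ r : Fin 7, c.1 = wfG ^ r.val := by
  obtain ⟨k, hk⟩ := Subgroup.mem_zpowers_iff.mp c.2
  have h7 : (0 : ℤ) ≤ k % 7 := Int.emod_nonneg _ (by norm_num)
  have h7' : k % 7 < 7 := Int.emod_lt_of_pos _ (by norm_num)
  refine ⟨⟨(k % 7).toNat, by omega⟩, ?_⟩
  rw [← hk, ← zpow_mod_orderOf, wfG_orderOf, ← zpow_natCast]
  congr 1
  simp only [Nat.cast_ofNat]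
  omega

theorem wf_neg_one_pow_add (x y : ZMod 2) :
    ((-1 : ℂ)) ^ (x + y).val = (-1) ^ x.val * (-1) ^ y.val := by
  rw [ZMod.val_add, ← neg_one_pow_eq_pow_mod_two, pow_add]

theorem wf_neg_one_pow_ne (x y : ZMod 2) (h : x ≠ y) :
    ((-1 : ℂ)) ^ x.val ≠ (-1) ^ y.val := by
  fin_cases x <;> fin_cases y
  · exact absurd rfl h
  · norm_num [ZMod.val]
  · norm_num [ZMod.val]
  · exact absurd rfl h

/-- the linear character `v ↦ (-1)^(v 0)` of `2^3`. -/
noncomputable def wfChi : Multiplicative (Fin 3 → ZMod 2) →* ℂ where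
  toFun v := (-1 : ℂ) ^ (v.toAdd 0).val
  map_one' := by
    change (-1 : ℂ) ^ ((0 : Fin 3 → ZMod 2) 0).val = 1
    simp
  map_mul' a b := by
    change (-1 : ℂ) ^ ((a.toAdd + b.toAdd) 0).val = _
    rw [Pi.add_apply, wf_neg_one_pow_add]

/-- (WF) the Frobenius group `2^3:7`: `A = 2^3`, `lam` a nontrivial character `A → {±1}`; its
stabilizer in `C7` is trivial. -/
theorem WF_frob56 : ∃ (F : Type) (_ : Group F) (_ : Fintype F), Group.IsSolvable F ∧
    Nat.card F = 56 ∧ HasInd F 7 := by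
  haveI : Finite WfF := Finite.of_equiv _ SemidirectProduct.equivProd.symm
  refine ⟨WfF, inferInstance, Fintype.ofFinite _, ?_, ?_, ?_⟩
  · exact Cfsg.Agent.Helper98.FrobSpec.isSolvable_linear (Subgroup.zpowers wfG).subtype
  · rw [SemidirectProduct.card, wf_card_C]
    have : Nat.card (Multiplicative (Fin 3 → ZMod 2)) = 8 := by
      rw [Nat.card_eq_fintype_card]
      simp
    rw [this]
  · have h := wf_hasInd_semidirect
      ((Cfsg.Agent.Helper98.FrobSpec.glAut 3 2).comp (Subgroup.zpowers wfG).subtype) wfChi ?_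
    · rwa [wf_card_C] at h
    · intro c hc
      obtain ⟨r, hr⟩ := wf_exists_pow c
      have hr0 : r ≠ 0 := by
        intro h0
        apply hc
        apply Subtype.ext
        rw [hr, h0]
        simp
      obtain ⟨v, hv⟩ := wfM_move r hr0
      refine ⟨Multiplicative.ofAdd v, ?_⟩
      have e : (((Cfsg.Agent.Helper98.FrobSpec.glAut 3 2).comp (Subgroup.zpowers wfG).subtype) c)
          (Multiplicative.ofAdd v) = Multiplicative.ofAdd ((wfM ^ r.val).mulVec v) := by
        change Cfsg.Agent.Helper98.FrobSpec.glAut 3 2 c.1 (Multiplicative.ofAdd v) = _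
        rw [Cfsg.Agent.Helper98.FrobSpec.glAut_apply, hr, Units.val_pow_eq_pow_val]
        rfl
      rw [e]
      exact wf_neg_one_pow_ne _ _ hv

end Cfsg.Agent.Helper76.U33
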